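import Groth.Prelude.Def_Biext
import Mathlib.CategoryTheory.Sites.LocallySurjective
import Mathlib.CategoryTheory.Sites.Abelian
import Mathlib.CategoryTheory.Sites.Preserves
import Mathlib.Algebra.Category.Grp.Abelian

/-!
# Descent of splittings of biextensions along multiplication maps of divisible sheaves
-/

set_option autoImplicit false

universe u

open CategoryTheory Opposite

noncomputable section

namespace Groth.Agent.BiextDivLib

variable {C : Type (u + 1)} [Category.{u} C] {J : GrothendieckTopology C}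
variable {P Q G : Sheaf J AddCommGrpCat.{u + 1}} (B : Biext J P Q G)

theorem zsmul_app (n : ℤ) (T : C) (x : P.obj.obj (op T)) :
    ((n • 𝟙 P : P ⟶ P).hom.app (op T)) x = n • x := by
  rfl

theorem map_zsmul' (n : ℤ) {T T' : C} (f : T' ⟶ T) (x : P.obj.obj (op T)) :
    P.obj.map f.op (n • x) = n • P.obj.map f.op x :=
  map_zsmul (P.obj.map f.op).hom n x

theorem add₁_congr {T : C} {x x' z z' : B.E.obj.obj (op T)} (hx : x = x') (hz : z = z')
    (h : B.πQ T x = B.πQ T z) :
    B.add₁ T x z h = B.add₁ T x' z' (hx ▸ hz ▸ h) := by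
  subst hx hz; rfl

theorem add₂_congr {T : C} {x x' z z' : B.E.obj.obj (op T)} (hx : x = x') (hz : z = z')
    (h : B.πP T x = B.πP T z) :
    B.add₂ T x z h = B.add₂ T x' z' (hx ▸ hz ▸ h) := by
  subst hx hz; rfl

theorem act_right₁ (T : C) (g : G.obj.obj (op T)) (x z : B.E.obj.obj (op T)) (h : B.πQ T x = B.πQ T (B.act T g z)) :
    B.add₁ T x (B.act T g z) h = B.act T g (B.add₁ T x z (h.trans (B.πQ_act T g z))) := by
  rw [B.add₁_comm, B.add₁_act T g z x (h.trans (B.πQ_act T g z)).symm,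
    B.add₁_comm T z x (h.trans (B.πQ_act T g z)).symm]

theorem act_right₂ (T : C) (g : G.obj.obj (op T)) (x z : B.E.obj.obj (op T)) (h : B.πP T x = B.πP T (B.act T g z)) :
    B.add₂ T x (B.act T g z) h = B.act T g (B.add₂ T x z (h.trans (B.πP_act T g z))) := by
  rw [B.add₂_comm, B.add₂_act T g z x (h.trans (B.πP_act T g z)).symm,
    B.add₂_comm T z x (h.trans (B.πP_act T g z)).symm]

theorem eq_zero_of_act (T : C) (g : G.obj.obj (op T)) (x : B.E.obj.obj (op T)) (h : B.act T g x = x) : g = 0 :=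
  (B.existsUnique_act T x x rfl rfl).unique h (B.zero_act T x)

theorem act_left₁ (T : C) (g : G.obj.obj (op T)) (x z : B.E.obj.obj (op T)) (h : B.πQ T (B.act T g x) = B.πQ T z) :
    B.add₁ T (B.act T g x) z h = B.act T g (B.add₁ T x z ((B.πQ_act T g x).symm.trans h)) :=
  B.add₁_act T g x z _

theorem act_left₂ (T : C) (g : G.obj.obj (op T)) (x z : B.E.obj.obj (op T)) (h : B.πP T (B.act T g x) = B.πP T z) :
    B.add₂ T (B.act T g x) z h = B.act T g (B.add₂ T x z ((B.πP_act T g x).symm.trans h)) :=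
  B.add₂_act T g x z _

/-- An idempotent of the first law is neutral for it. -/
theorem add₁_idem (T : C) (x e : B.E.obj.obj (op T)) (h : B.πQ T x = B.πQ T e)
    (he : B.add₁ T e e rfl = e) : B.add₁ T x e h = x := by
  have hp : B.πP T e = 0 := by
    have := B.πP_add₁ T e e rfl
    rw [he] at this
    simpa using this
  obtain ⟨k, hk, -⟩ := B.existsUnique_act T x (B.add₁ T x e h) (by rw [B.πP_add₁, hp, add_zero])
    (B.πQ_add₁ T x e h).symm
  have h1 := B.add₁_assoc T x e e h rfl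
  rw [add₁_congr B hk.symm rfl, B.add₁_act T k x e h, ← hk, ← B.add_act] at h1
  rw [add₁_congr B rfl he (h.trans (B.πQ_add₁ T e e rfl).symm), ← hk] at h1
  have h2 : k + k = k := by
    obtain ⟨w, -, hw⟩ := B.existsUnique_act T x (B.act T k x) (B.πP_act T k x).symm (B.πQ_act T k x).symm
    exact (hw _ h1).trans (hw _ rfl).symm
  rw [← hk, show k = 0 by simpa using h2, B.zero_act]

/-- An idempotent of the second law is neutral for it. -/
theorem add₂_idem (T : C) (x e : B.E.obj.obj (op T)) (h : B.πP T x = B.πP T e)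
    (he : B.add₂ T e e rfl = e) : B.add₂ T x e h = x := by
  have hp : B.πQ T e = 0 := by
    have := B.πQ_add₂ T e e rfl
    rw [he] at this
    simpa using this
  obtain ⟨k, hk, -⟩ := B.existsUnique_act T x (B.add₂ T x e h) (B.πP_add₂ T x e h).symm
    (by rw [B.πQ_add₂, hp, add_zero])
  have h1 := B.add₂_assoc T x e e h rfl
  rw [add₂_congr B hk.symm rfl, B.add₂_act T k x e h, ← hk, ← B.add_act] at h1
  rw [add₂_congr B rfl he (h.trans (B.πP_add₂ T e e rfl).symm), ← hk] at h1
  have h2 : k + k = k := by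
    obtain ⟨w, -, hw⟩ := B.existsUnique_act T x (B.act T k x) (B.πP_act T k x).symm (B.πQ_act T k x).symm
    exact (hw _ h1).trans (hw _ rfl).symm
  rw [← hk, show k = 0 by simpa using h2, B.zero_act]

/-- A family of sections over `(n x, m y)`, biadditive and natural. -/
structure Fam (n m : ℤ) where
  s : ∀ T : C, P.obj.obj (op T) → Q.obj.obj (op T) → B.E.obj.obj (op T)
  πP_s : ∀ T x y, B.πP T (s T x y) = n • x
  πQ_s : ∀ T x y, B.πQ T (s T x y) = m • y
  s_map : ∀ {T T' : C} (f : T' ⟶ T) x y,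
    B.E.obj.map f.op (s T x y) = s T' (P.obj.map f.op x) (Q.obj.map f.op y)
  s_add₁ : ∀ T x x' y,
    s T (x + x') y = B.add₁ T (s T x y) (s T x' y) ((πQ_s T x y).trans (πQ_s T x' y).symm)
  s_add₂ : ∀ T x y y',
    s T x (y + y') = B.add₂ T (s T x y) (s T x y') ((πP_s T x y).trans (πP_s T x y').symm)

variable {B}
variable {n m : ℤ} (F : Fam B n m)

/-- `F` does not change when the first variable is moved by a point killed by `n`, if `Q` is `n`-divisible. -/
theorem Fam.s_add_left (hQn : ∀ (T : C) (q : Q.obj.obj (op T)),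
      ∃ R ∈ J T, ∀ ⦃T' : C⦄ (f : T' ⟶ T), R f → ∃ y, n • y = Q.obj.map f.op q)
    (T : C) (x a : P.obj.obj (op T)) (y : Q.obj.obj (op T)) (ha : n • a = 0) :
    F.s T (x + a) y = F.s T x y := by
  suffices key : ∀ (T : C) (a : P.obj.obj (op T)) (y : Q.obj.obj (op T)), n • a = 0 →
      B.add₁ T (F.s T a y) (F.s T a y) rfl = F.s T a y by
    rw [F.s_add₁, add₁_idem B T _ _ _ (key T a y ha)]
  clear ha a y x T
  -- the defect
  have hex : ∀ (T : C) (a : P.obj.obj (op T)) (y : Q.obj.obj (op T)), n • a = 0 →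
      ∃! g : G.obj.obj (op T), B.act T g (F.s T a y) = B.add₁ T (F.s T a y) (F.s T a y) rfl := by
    intro T a y ha
    exact B.existsUnique_act T _ _ (by rw [B.πP_add₁, F.πP_s, ha, add_zero]) (B.πQ_add₁ T _ _ rfl).symm
  choose d hd0 hduniq0 using hex
  have hd : ∀ (T : C) (a : P.obj.obj (op T)) (y : Q.obj.obj (op T)) (ha : n • a = 0),
      B.act T (d T a y ha) (F.s T a y) = B.add₁ T (F.s T a y) (F.s T a y) rfl := hd0
  have hduniq : ∀ (T : C) (a : P.obj.obj (op T)) (y : Q.obj.obj (op T)) (ha : n • a = 0) (g : G.obj.obj (op T)),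
      B.act T g (F.s T a y) = B.add₁ T (F.s T a y) (F.s T a y) rfl → g = d T a y ha := hduniq0
  have d_left : ∀ (T : C) (a a' : P.obj.obj (op T)) (y : Q.obj.obj (op T)) (ha : n • a = 0) (ha' : n • a' = 0),
      d T (a + a') y (by rw [smul_add, ha, ha', add_zero]) = d T a y ha + d T a' y ha' := by
    intro T a a' y ha ha'
    refine (hduniq T (a + a') y _ _ ?_).symm
    set e := F.s T a y with he
    set e' := F.s T a' y with he'
    have hee : B.πQ T e = B.πQ T e' := (F.πQ_s T a y).trans (F.πQ_s T a' y).symm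
    obtain ⟨k, hk, -⟩ := B.existsUnique_act T e e' ((F.πP_s T a y).trans (ha.trans (ha'.symm.trans (F.πP_s T a' y).symm))) hee
    have hs : F.s T (a + a') y = B.act T (k + d T a y ha) e := by
      rw [F.s_add₁, add₁_congr B rfl hk.symm, act_right₁ B T k e e (B.πQ_act T k e).symm, ← hd T a y ha, ← B.add_act]
    have hd' : d T a' y ha' = k + d T a y ha := by
      refine (hduniq T a' y ha' _ ?_).symm
      rw [← he', ← hk, act_left₁ B T k e (B.act T k e) rfl, act_right₁ B T k e e (B.πQ_act T k e).symm, ← hd T a y ha, ← B.add_act, ← B.add_act,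
        ← B.add_act, ← he]
      congr 1
      abel
    have hsum : B.add₁ T (B.act T (k + d T a y ha) e) (B.act T (k + d T a y ha) e) rfl =
        B.act T ((k + d T a y ha) + ((k + d T a y ha) + d T a y ha)) e := by
      rw [act_left₁ B T (k + d T a y ha) e (B.act T (k + d T a y ha) e) rfl, act_right₁ B T _ e e (B.πQ_act T _ e).symm, ← hd T a y ha, ← B.add_act, ← B.add_act, ← he]
      congr 1
      abel
    rw [add₁_congr B hs hs, hsum, hs, hd', ← B.add_act]
    congr 1
    abel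
  have d_right : ∀ (T : C) (a : P.obj.obj (op T)) (y y' : Q.obj.obj (op T)) (ha : n • a = 0),
      d T a (y + y') ha = d T a y ha + d T a y' ha := by
    intro T a y y' ha
    refine (hduniq T a (y + y') ha _ ?_).symm
    have hc := B.compat T (F.s T a y) (F.s T a y') (F.s T a y) (F.s T a y')
      ((F.πP_s T a y).trans (F.πP_s T a y').symm) ((F.πP_s T a y).trans (F.πP_s T a y').symm) rfl rfl
    rw [add₁_congr B (F.s_add₂ T a y y') (F.s_add₂ T a y y'), hc,
      add₂_congr B (hd T a y ha).symm (hd T a y' ha).symm,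
      act_left₂ B T (d T a y ha) (F.s T a y) (B.act T (d T a y' ha) (F.s T a y'))
        ((B.πP_act T _ _).trans (((F.πP_s T a y).trans (F.πP_s T a y').symm).trans (B.πP_act T _ _).symm)),
      act_right₂ B T _ _ _ (((F.πP_s T a y).trans (F.πP_s T a y').symm).trans (B.πP_act T _ _).symm), ← F.s_add₂, ← B.add_act]
  have d_map : ∀ {T T' : C} (f : T' ⟶ T) (a : P.obj.obj (op T)) (y : Q.obj.obj (op T)) (ha : n • a = 0),
      G.obj.map f.op (d T a y ha) =
        d T' (P.obj.map f.op a) (Q.obj.map f.op y) (by rw [← map_zsmul', ha, map_zero]) := by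
    intro T T' f a y ha
    refine hduniq T' _ _ _ _ ?_
    rw [← F.s_map, ← B.act_map, hd, B.add₁_map]
  intro T a y ha
  suffices h0 : d T a y ha = 0 by rw [← hd T a y ha, h0, B.zero_act]
  obtain ⟨R, hR, hdiv⟩ := hQn T y
  have hsep : Presieve.IsSeparated J (G.obj ⋙ forget _) :=
    ((isSheaf_iff_isSheaf_of_type J _).1 (((sheafCompose J (forget AddCommGrpCat.{u + 1})).obj G).property)).isSeparated
  refine (hsep R hR).ext fun Y f hf => ?_
  show G.obj.map f.op (d T a y ha) = G.obj.map f.op 0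
  rw [map_zero, d_map]
  obtain ⟨y', hy'⟩ := hdiv f hf
  let a' : P.obj.obj (op Y) := P.obj.map f.op a
  have ha' : n • a' = 0 := by rw [← map_zsmul', ha, map_zero]
  let φy : Q.obj.obj (op Y) →+ G.obj.obj (op Y) :=
    AddMonoidHom.mk' (fun w => d Y a' w ha') (fun w w' => d_right Y a' w w' ha')
  let K : AddSubgroup (P.obj.obj (op Y)) := (zsmulAddGroupHom n).ker
  let φa : K →+ G.obj.obj (op Y) :=
    AddMonoidHom.mk' (fun w => d Y w.1 y' w.2) (fun w w' => d_left Y w.1 w'.1 y' w.2 w'.2)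
  calc d Y a' (Q.obj.map f.op y) ha' = φy (n • y') := by rw [hy']; rfl
    _ = n • φy y' := map_zsmul _ _ _
    _ = n • φa ⟨a', ha'⟩ := rfl
    _ = φa (n • ⟨a', ha'⟩) := (map_zsmul _ _ _).symm
    _ = φa 0 := congrArg φa (Subtype.ext ha')
    _ = 0 := map_zero _

/-- The same for the second variable, if `P` is `m`-divisible. -/
theorem Fam.s_add_right (hPm : ∀ (T : C) (p : P.obj.obj (op T)),
      ∃ R ∈ J T, ∀ ⦃T' : C⦄ (f : T' ⟶ T), R f → ∃ x, m • x = P.obj.map f.op p)
    (T : C) (x : P.obj.obj (op T)) (y b : Q.obj.obj (op T)) (hb : m • b = 0) :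
    F.s T x (y + b) = F.s T x y := by
  suffices key : B.add₂ T (F.s T x b) (F.s T x b) rfl = F.s T x b by
    rw [F.s_add₂, add₂_idem B T _ _ _ key]
  let B' : Biext J Q P G :=
    { E := B.E, πP := B.πQ, πQ := B.πP, πP_map := B.πQ_map, πQ_map := B.πP_map, act := B.act
      act_map := B.act_map, πP_act := B.πQ_act, πQ_act := B.πP_act, zero_act := B.zero_act
      add_act := B.add_act
      existsUnique_act := fun T x y h h' => B.existsUnique_act T x y h' h
      locallySurjective := fun T q p => by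
        obtain ⟨R, hR, h⟩ := B.locallySurjective T p q
        exact ⟨R, hR, fun T' f hf => (h f hf).imp fun z hz => hz.symm⟩
      add₁ := B.add₂, πP_add₁ := B.πQ_add₂, πQ_add₁ := B.πP_add₂, add₁_map := B.add₂_map
      add₁_comm := B.add₂_comm, add₁_assoc := B.add₂_assoc, add₁_act := B.add₂_act
      add₂ := B.add₁, πP_add₂ := B.πQ_add₁, πQ_add₂ := B.πP_add₁, add₂_map := B.add₁_map
      add₂_comm := B.add₁_comm, add₂_assoc := B.add₁_assoc, add₂_act := B.add₁_act
      compat := fun T x y z t hxy hzt hxz hyt => (B.compat T x z y t hxz hyt hxy hzt).symm }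
  let F' : Fam B' m n :=
    { s := fun T y x => F.s T x y, πP_s := fun T y x => F.πQ_s T x y, πQ_s := fun T y x => F.πP_s T x y
      s_map := fun f y x => F.s_map f x y, s_add₁ := fun T y y' x => F.s_add₂ T x y y'
      s_add₂ := fun T y x x' => F.s_add₁ T x x' y }
  have h2 : F.s T x (b + b) = F.s T x b := F'.s_add_left hPm T b b x hb
  exact (F.s_add₂ T x b b).symm.trans h2

include F in
/-- A biadditive natural family over `(n x, m y)` descends to a splitting. -/
theorem Fam.isTrivial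
    (hPn : ∀ (T : C) (p : P.obj.obj (op T)),
      ∃ R ∈ J T, ∀ ⦃T' : C⦄ (f : T' ⟶ T), R f → ∃ x, n • x = P.obj.map f.op p)
    (hPm : ∀ (T : C) (p : P.obj.obj (op T)),
      ∃ R ∈ J T, ∀ ⦃T' : C⦄ (f : T' ⟶ T), R f → ∃ x, m • x = P.obj.map f.op p)
    (hQn : ∀ (T : C) (q : Q.obj.obj (op T)),
      ∃ R ∈ J T, ∀ ⦃T' : C⦄ (f : T' ⟶ T), R f → ∃ y, n • y = Q.obj.map f.op q)
    (hQm : ∀ (T : C) (q : Q.obj.obj (op T)),
      ∃ R ∈ J T, ∀ ⦃T' : C⦄ (f : T' ⟶ T), R f → ∃ y, m • y = Q.obj.map f.op q) :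
    Biext.IsTrivial J B := by
  have hinv : ∀ (T : C) (x x' : P.obj.obj (op T)) (y y' : Q.obj.obj (op T)),
      n • x = n • x' → m • y = m • y' → F.s T x y = F.s T x' y' := by
    intro T x x' y y' hx hy
    have h1 := F.s_add_left hQn T x (x' - x) y (by rw [smul_sub, hx, sub_self])
    have h2 := F.s_add_right hPm T x' y (y' - y) (by rw [smul_sub, hy, sub_self])
    rw [add_sub_cancel] at h1 h2
    exact h1.symm.trans h2.symm
  have hE : Presieve.IsSheaf J B.E.obj := (isSheaf_iff_isSheaf_of_type J _).1 B.E.property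
  let R0 : ∀ (T : C) (p : P.obj.obj (op T)) (q : Q.obj.obj (op T)), Sieve T := fun T p q =>
    { arrows := fun Y f => (∃ x, n • x = P.obj.map f.op p) ∧ ∃ y, m • y = Q.obj.map f.op q
      downward_closed := fun {Y Z f} hf g => by
        obtain ⟨⟨x, hx⟩, y, hy⟩ := hf
        refine ⟨⟨P.obj.map g.op x, ?_⟩, Q.obj.map g.op y, ?_⟩
        · rw [← map_zsmul', hx, ← ConcreteCategory.comp_apply, ← Functor.map_comp, ← op_comp]
        · rw [← map_zsmul', hy, ← ConcreteCategory.comp_apply, ← Functor.map_comp, ← op_comp] }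
  have hR0 : ∀ T p q, R0 T p q ∈ J T := by
    intro T p q
    obtain ⟨R, hR, h⟩ := hPn T p
    obtain ⟨R', hR', h'⟩ := hQm T q
    refine J.superset_covering ?_ (J.intersection_covering hR hR')
    rintro Y f ⟨h1, h2⟩
    exact ⟨h f h1, h' f h2⟩
  have hex : ∀ (T : C) (p : P.obj.obj (op T)) (q : Q.obj.obj (op T)), ∃ e : B.E.obj.obj (op T),
      ∀ (Y : C) (f : Y ⟶ T) x y, n • x = P.obj.map f.op p → m • y = Q.obj.map f.op q →
        B.E.obj.map f.op e = F.s Y x y := by
    intro T p q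
    let fam : Presieve.FamilyOfElements B.E.obj (R0 T p q).arrows := fun Y f hf =>
      F.s Y hf.1.choose hf.2.choose
    have hc : fam.Compatible := by
      intro Y₁ Y₂ Z g₁ g₂ f₁ f₂ hf₁ hf₂ hcomm
      show B.E.obj.map g₁.op (F.s _ _ _) = B.E.obj.map g₂.op (F.s _ _ _)
      rw [F.s_map, F.s_map]
      refine hinv Z _ _ _ _ ?_ ?_
      · rw [← map_zsmul', ← map_zsmul', hf₁.1.choose_spec, hf₂.1.choose_spec, ← ConcreteCategory.comp_apply,
          ← ConcreteCategory.comp_apply, ← Functor.map_comp, ← Functor.map_comp, ← op_comp, ← op_comp, hcomm]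
      · rw [← map_zsmul', ← map_zsmul', hf₁.2.choose_spec, hf₂.2.choose_spec, ← ConcreteCategory.comp_apply,
          ← ConcreteCategory.comp_apply, ← Functor.map_comp, ← Functor.map_comp, ← op_comp, ← op_comp, hcomm]
    obtain ⟨e, he, -⟩ := hE (R0 T p q) (hR0 T p q) fam hc
    refine ⟨e, fun Y f x y hx hy => (he f ⟨⟨x, hx⟩, y, hy⟩).trans (hinv Y _ _ _ _ ?_ ?_)⟩
    · exact ((⟨x, hx⟩ : ∃ x, n • x = P.obj.map f.op p).choose_spec).trans hx.symm
    · exact ((⟨y, hy⟩ : ∃ y, m • y = Q.obj.map f.op q).choose_spec).trans hy.symm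
  choose σ hσ using hex
  have hsepP : Presieve.IsSeparated J (P.obj ⋙ forget _) :=
    ((isSheaf_iff_isSheaf_of_type J _).1 (((sheafCompose J (forget AddCommGrpCat.{u + 1})).obj P).property)).isSeparated
  have hsepQ : Presieve.IsSeparated J (Q.obj ⋙ forget _) :=
    ((isSheaf_iff_isSheaf_of_type J _).1 (((sheafCompose J (forget AddCommGrpCat.{u + 1})).obj Q).property)).isSeparated
  have hPσ : ∀ (T : C) p q, B.πP T (σ T p q) = p := fun T p q => by
    refine (hsepP _ (hR0 T p q)).ext fun Y f hf => ?_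
    obtain ⟨⟨x, hx⟩, y, hy⟩ := hf
    show P.obj.map f.op _ = P.obj.map f.op p
    rw [← B.πP_map, hσ T p q Y f x y hx hy, F.πP_s, hx]
  have hQσ : ∀ (T : C) p q, B.πQ T (σ T p q) = q := fun T p q => by
    refine (hsepQ _ (hR0 T p q)).ext fun Y f hf => ?_
    obtain ⟨⟨x, hx⟩, y, hy⟩ := hf
    show Q.obj.map f.op _ = Q.obj.map f.op q
    rw [← B.πQ_map, hσ T p q Y f x y hx hy, F.πQ_s, hy]
  refine ⟨{ σ := σ, πP_σ := hPσ, πQ_σ := hQσ, σ_map := ?_, σ_add₁ := ?_, σ_add₂ := ?_ }⟩
  · intro T T' f p q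
    refine (hE.isSeparated _ (hR0 T' (P.obj.map f.op p) (Q.obj.map f.op q))).ext fun Y g hg => ?_
    obtain ⟨⟨x, hx⟩, y, hy⟩ := hg
    rw [hσ T' _ _ Y g x y hx hy, ← ConcreteCategory.comp_apply, ← Functor.map_comp, ← op_comp]
    refine hσ T p q Y (g ≫ f) x y ?_ ?_
    · rw [hx, ← ConcreteCategory.comp_apply, ← Functor.map_comp, ← op_comp]
    · rw [hy, ← ConcreteCategory.comp_apply, ← Functor.map_comp, ← op_comp]
  · intro T p p' q
    refine (hE.isSeparated _ (J.intersection_covering (hR0 T p q) (hR0 T p' q))).ext fun Y g hg => ?_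
    obtain ⟨⟨⟨x, hx⟩, y, hy⟩, ⟨x', hx'⟩, -⟩ := hg
    rw [B.add₁_map, add₁_congr B (hσ T p q Y g x y hx hy) (hσ T p' q Y g x' y hx' hy), ← F.s_add₁]
    refine hσ T (p + p') q Y g _ y ?_ hy
    rw [smul_add, hx, hx', map_add]
  · intro T p q q'
    refine (hE.isSeparated _ (J.intersection_covering (hR0 T p q) (hR0 T p q'))).ext fun Y g hg => ?_
    obtain ⟨⟨⟨x, hx⟩, y, hy⟩, -, y', hy'⟩ := hg
    rw [B.add₂_map, add₂_congr B (hσ T p q Y g x y hx hy) (hσ T p q' Y g x y' hx hy'), ← F.s_add₂]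
    refine hσ T p (q + q') Y g x _ hx ?_
    rw [smul_add, hy, hy', map_add]

/-- A splitting of the inverse image by `(n, m)` gives a family. -/
def Fam.ofHomOver {B' : Biext J P Q G} (φ : Biext.HomOver J (n • 𝟙 P) (m • 𝟙 Q) (𝟙 G) B' B)
    (σ : Biext.Splitting J B') : Fam B n m where
  s T x y := φ.map T (σ.σ T x y)
  πP_s T x y := by rw [φ.πP_map, σ.πP_σ, zsmul_app]
  πQ_s T x y := by rw [φ.πQ_map, σ.πQ_σ, zsmul_app]
  s_map f x y := by rw [← φ.map_res, σ.σ_map]
  s_add₁ T x x' y := by rw [σ.σ_add₁, φ.map_add₁]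
  s_add₂ T x y y' := by rw [σ.σ_add₂, φ.map_add₂]

end Groth.Agent.BiextDivLib
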